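import Mathlib
import Cfsg.Agent.Helper58.Marggraf
import Cfsg.Agent.Helper60.Marg.Defs
import Cfsg.Agent.Helper47.Marg.MT

/-!
# (B2) for helper60 (S3620, Marggraf): the translates disjoint from a `(t-1)`-set cover the rest
-/

set_option autoImplicit false

namespace Cfsg.Agent.Helper66.Marg

open Cfsg.Agent.Helper60.Marg Cfsg.Agent.Helper58 MulAction

variable {G : Type*} [Group G] {Ω : Type*} [MulAction G Ω]

variable [Fintype Ω] [DecidableEq Ω]

/-- the preimage of `Γ` under `g` is a translate -/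
theorem filter_mem_translates (Γ : Set Ω) (g : G) [DecidablePred fun z : Ω => g • z ∈ Γ] :
    (Finset.univ.filter fun z : Ω => g • z ∈ Γ) ∈ translates G Γ := by
  rw [mem_translates]
  refine ⟨g, ?_⟩
  ext z
  simp

/-- (B2) -/
theorem translates_cover (Γ : Set Ω) (m t : ℕ) (hm : Γ.ncard = m) (hm1 : 1 ≤ m)
    (hn : Fintype.card Ω = 2 * m + 1) (htm : t < m)
    (ht : IsMultiplyPretransitive G Ω t) (A : Finset Ω) (hA : A.card + 1 = t) (x : Ω)
    (hx : x ∉ A) : ∃ T ∈ TA (translates G Γ) A, x ∈ T := by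
  classical
  -- a point of `Γ`
  have hΓne : Γ.Nonempty := by
    rw [← Set.ncard_pos]; omega
  obtain ⟨γ0, hγ0⟩ := hΓne
  -- an embedding of `A` into `Γᶜ`
  have hcompl : Γ.ncard + Γᶜ.ncard = Nat.card Ω := Set.ncard_add_ncard_compl Γ
  rw [Nat.card_eq_fintype_card, hn, hm] at hcompl
  haveI : Fintype (Γᶜ : Set Ω) := Fintype.ofFinite _
  have hcard : Fintype.card (A : Finset Ω) ≤ Fintype.card (Γᶜ : Set Ω) := by
    rw [Fintype.card_coe, ← Nat.card_eq_fintype_card, Nat.card_coe_set_eq]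
    omega
  obtain ⟨emb⟩ := Function.Embedding.nonempty_of_card_le hcard
  let f : Ω → Ω := fun z => if h : z ∈ A then ((emb ⟨z, h⟩ : (Γᶜ : Set Ω)) : Ω) else γ0
  have hfA : ∀ z (h : z ∈ A), f z = ((emb ⟨z, h⟩ : (Γᶜ : Set Ω)) : Ω) := fun z h => dif_pos h
  have hfA' : ∀ z, z ∈ A → f z ∉ Γ := by
    intro z h
    rw [hfA z h]
    exact (emb ⟨z, h⟩).2
  have hfx : f x = γ0 := dif_neg hx
  have hinj : Set.InjOn f ((insert x A : Finset Ω) : Set Ω) := by
    intro z hz z' hz' hzz'
    rw [Finset.mem_coe, Finset.mem_insert] at hz hz'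
    rcases hz with rfl | hz <;> rcases hz' with rfl | hz'
    · rfl
    · exfalso
      apply hfA' z' hz'
      rw [← hzz', hfx]; exact hγ0
    · exfalso
      apply hfA' z hz
      rw [hzz', hfx]; exact hγ0
    · rw [hfA z hz, hfA z' hz'] at hzz'
      have := emb.injective (Subtype.ext hzz')
      exact congrArg Subtype.val this
  have hcardins : (insert x A : Finset Ω).card = t := by
    rw [Finset.card_insert_of_notMem hx]; exact hA
  have htc : t ≤ Nat.card Ω := by
    rw [Nat.card_eq_fintype_card, hn]; omega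
  obtain ⟨g, hg⟩ := Cfsg.Agent.Helper47.Marg.exists_smul_eq_of_injOn t ht htc (insert x A)
    hcardins.le f hinj
  refine ⟨Finset.univ.filter fun z : Ω => g • z ∈ Γ, ?_, ?_⟩
  · unfold TA
    rw [Finset.mem_filter]
    refine ⟨filter_mem_translates Γ g, ?_⟩
    rw [Finset.disjoint_left]
    intro z hz hzA
    rw [Finset.mem_filter] at hz
    have := hg z (Finset.mem_insert_of_mem hzA)
    rw [this] at hz
    exact hfA' z hzA hz.2
  · rw [Finset.mem_filter]
    refine ⟨Finset.mem_univ _, ?_⟩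
    rw [hg x (Finset.mem_insert_self x A), hfx]
    exact hγ0

end Cfsg.Agent.Helper66.Marg
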