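import Mathlib
import Cfsg.Agent.Helper58.Marggraf
import Cfsg.Agent.Helper60.Marg.Defs
import Cfsg.Agent.Helper47.Marg.MT

/-!
# (B3a) for helper60 (S3620, Marggraf): the classes of `Eqv` all have the same size
-/

set_option autoImplicit false

namespace Cfsg.Agent.Helper66.Marg

open Cfsg.Agent.Helper60.Marg Cfsg.Agent.Helper58 MulAction

variable {G : Type*} [Group G] {Ω : Type*} [MulAction G Ω]

variable [Fintype Ω] [DecidableEq Ω]

/-- transport of `Eqv` along a group element carrying `A` to `A'` -/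
theorem eqv_smul (Γ : Set Ω) (g : G) (A A' : Finset Ω) (hAA' : ∀ a, a ∈ A ↔ g • a ∈ A')
    (x y : Ω) (h : Eqv (translates G Γ) A x y) : Eqv (translates G Γ) A' (g • x) (g • y) := by
  classical
  intro T' hT'
  unfold TA at hT'
  rw [Finset.mem_filter, mem_translates] at hT'
  obtain ⟨⟨k, hk⟩, hdisj⟩ := hT'
  have hmem : ∀ z : Ω, z ∈ T' ↔ k • z ∈ Γ := by
    intro z
    have : z ∈ (T' : Set Ω) ↔ z ∈ {z | k • z ∈ Γ} := by rw [hk]
    simpa using this
  have hT : (Finset.univ.filter fun z : Ω => g • z ∈ T') ∈ TA (translates G Γ) A := by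
    unfold TA
    rw [Finset.mem_filter, mem_translates]
    refine ⟨⟨k * g, ?_⟩, ?_⟩
    · ext z
      simp only [Finset.coe_filter, Finset.mem_univ, true_and, Set.mem_setOf_eq]
      rw [hmem, mul_smul]
    · rw [Finset.disjoint_left]
      intro z hz hzA
      rw [Finset.mem_filter] at hz
      exact (Finset.disjoint_left.1 hdisj) hz.2 ((hAA' z).1 hzA)
  have := h _ hT
  simpa using this

/-- (B3a) the classes all have the same size -/
theorem translates_cls_const (Γ : Set Ω) (t : ℕ) (ht : IsMultiplyPretransitive G Ω t)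
    (A A' : Finset Ω) (hA : A.card + 1 = t) (hA' : A'.card + 1 = t) (x x' : Ω) (hx : x ∉ A)
    (hx' : x' ∉ A') :
    {y : Ω | y ∉ A ∧ Eqv (translates G Γ) A x y}.ncard =
      {y : Ω | y ∉ A' ∧ Eqv (translates G Γ) A' x' y}.ncard := by
  classical
  -- a bijection `A ≃ A'`
  have hcardAA' : A.card = A'.card := by omega
  let e : A ≃ A' := Finset.equivOfCardEq hcardAA'
  let f : Ω → Ω := fun z => if h : z ∈ A then ((e ⟨z, h⟩ : A') : Ω) else x'
  have hfA : ∀ z (h : z ∈ A), f z = ((e ⟨z, h⟩ : A') : Ω) := fun z h => dif_pos h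
  have hfA' : ∀ z, z ∈ A → f z ∈ A' := by
    intro z h
    rw [hfA z h]
    exact (e ⟨z, h⟩).2
  have hfx : f x = x' := dif_neg hx
  have hinj : Set.InjOn f ((insert x A : Finset Ω) : Set Ω) := by
    intro z hz z' hz' hzz'
    rw [Finset.mem_coe, Finset.mem_insert] at hz hz'
    rcases hz with rfl | hz <;> rcases hz' with rfl | hz'
    · rfl
    · exfalso
      apply hx'
      rw [← hfx, hzz']; exact hfA' z' hz'
    · exfalso
      apply hx'
      rw [← hfx, ← hzz']; exact hfA' z hz
    · rw [hfA z hz, hfA z' hz'] at hzz'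
      have := e.injective (Subtype.ext hzz')
      exact congrArg Subtype.val this
  have hcardins : (insert x A : Finset Ω).card = t := by
    rw [Finset.card_insert_of_notMem hx]; exact hA
  have htc : t ≤ Nat.card Ω := by
    rw [Nat.card_eq_fintype_card, ← hcardins]
    exact Finset.card_le_univ _
  obtain ⟨g, hg⟩ := Cfsg.Agent.Helper47.Marg.exists_smul_eq_of_injOn t ht htc (insert x A)
    hcardins.le f hinj
  have hgx : g • x = x' := by rw [hg x (Finset.mem_insert_self x A), hfx]
  have hgA : ∀ a, a ∈ A ↔ g • a ∈ A' := by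
    intro a
    constructor
    · intro ha
      rw [hg a (Finset.mem_insert_of_mem ha)]
      exact hfA' a ha
    · intro ha'
      -- `g • a = e a0` for some `a0 ∈ A`
      obtain ⟨a0, ha0⟩ := e.surjective ⟨g • a, ha'⟩
      have h1 : g • (a0 : Ω) = g • a := by
        rw [hg (a0 : Ω) (Finset.mem_insert_of_mem a0.2), hfA (a0 : Ω) a0.2]
        have : (⟨(a0 : Ω), a0.2⟩ : A) = a0 := Subtype.ext rfl
        rw [this, ha0]
      have h2 : (a0 : Ω) = a := by
        have := congrArg (fun z => g⁻¹ • z) h1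
        simpa using this
      rw [← h2]; exact a0.2
  have hgA' : ∀ a', a' ∈ A' ↔ g⁻¹ • a' ∈ A := by
    intro a'
    rw [hgA (g⁻¹ • a'), smul_inv_smul]
  have hset : {y : Ω | y ∉ A' ∧ Eqv (translates G Γ) A' x' y} =
      (fun z : Ω => g • z) '' {y : Ω | y ∉ A ∧ Eqv (translates G Γ) A x y} := by
    ext y'
    simp only [Set.mem_setOf_eq, Set.mem_image]
    constructor
    · rintro ⟨hy', hE⟩
      refine ⟨g⁻¹ • y', ⟨?_, ?_⟩, smul_inv_smul g y'⟩
      · intro h
        exact hy' ((hgA' y').2 h)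
      · have := eqv_smul Γ g⁻¹ A' A hgA' x' y' hE
        rw [← hgx, inv_smul_smul] at this
        exact this
    · rintro ⟨y, ⟨hy, hE⟩, rfl⟩
      refine ⟨fun h => hy ((hgA y).2 h), ?_⟩
      have := eqv_smul Γ g A A' hgA x y hE
      rw [hgx] at this
      exact this
  rw [hset]
  exact (Set.ncard_image_of_injective _ (MulAction.injective g)).symm

end Cfsg.Agent.Helper66.Marg
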