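import Mathlib
import Cfsg.Agent.Helper58.Marggraf
import Cfsg.Agent.Helper60.Marg.Defs

/-!
# (M4) for helper60 (S3620, Marggraf): passing to a point stabilizer
-/

set_option autoImplicit false

namespace Cfsg.Agent.Helper66.Marg

open Cfsg.Agent.Helper60.Marg Cfsg.Agent.Helper58 MulAction

variable {G : Type*} [Group G] {Ω : Type*} [MulAction G Ω]

/-- (M4a) -/
theorem isJ_ofStabilizer {Γ : Set Ω} (hJ : IsJ G Γ) (a : Ω) (ha : a ∉ Γ) :
    IsJ (stabilizer G a) (Subtype.val ⁻¹' Γ : Set (SubMulAction.ofStabilizer G a)) := by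
  intro x hx y hy
  obtain ⟨g, hg, hgxy⟩ := hJ (x : Ω) hx (y : Ω) hy
  have hga : g ∈ stabilizer G a := mem_stabilizer_iff.2 (hg a ha)
  refine ⟨⟨g, hga⟩, ?_, ?_⟩
  · intro z hz
    apply Subtype.ext
    exact hg (z : Ω) hz
  · apply Subtype.ext
    exact hgxy

/-- (M4b) -/
theorem ncard_preimage_ofStabilizer (Γ : Set Ω) (a : Ω) (ha : a ∉ Γ) :
    (Subtype.val ⁻¹' Γ : Set (SubMulAction.ofStabilizer G a)).ncard = Γ.ncard := by
  apply Set.ncard_preimage_of_injective_subset_range Subtype.val_injective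
  intro x hx
  have hxa : x ≠ a := fun h => ha (h ▸ hx)
  exact ⟨⟨x, (SubMulAction.mem_ofStabilizer_iff G a).2 hxa⟩, rfl⟩

/-- (M4c) -/
theorem small_lift_ofStabilizer (a : Ω) (g : stabilizer G a)
    (h : Small2 (SubMulAction.ofStabilizer G a) g ∨ Small3 (SubMulAction.ofStabilizer G a) g) :
    Small2 Ω (g : G) ∨ Small3 Ω (g : G) := by
  have hga : (g : G) • a = a := mem_stabilizer_iff.1 g.2
  have hval : ∀ z : SubMulAction.ofStabilizer G a, (g : G) • (z : Ω) = ((g • z : _) : Ω) :=
    fun z => rfl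
  rcases h with ⟨x, y, hxy, h1, h2, h3⟩ | ⟨x, y, w, hxy, hyw, hxw, h1, h2, h3, h4⟩
  · left
    refine ⟨(x : Ω), (y : Ω), fun h => hxy (Subtype.ext h), ?_, ?_, ?_⟩
    · rw [hval, h1]
    · rw [hval, h2]
    · intro z hzx hzy
      by_cases hza : z = a
      · rw [hza]; exact hga
      · have hz : z ∈ SubMulAction.ofStabilizer G a :=
          (SubMulAction.mem_ofStabilizer_iff G a).2 hza
        have := h3 ⟨z, hz⟩ (fun h => hzx (congrArg Subtype.val h))
          (fun h => hzy (congrArg Subtype.val h))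
        exact congrArg Subtype.val this
  · right
    refine ⟨(x : Ω), (y : Ω), (w : Ω), fun h => hxy (Subtype.ext h), fun h => hyw (Subtype.ext h),
      fun h => hxw (Subtype.ext h), ?_, ?_, ?_, ?_⟩
    · rw [hval, h1]
    · rw [hval, h2]
    · rw [hval, h3]
    · intro z hzx hzy hzw
      by_cases hza : z = a
      · rw [hza]; exact hga
      · have hz : z ∈ SubMulAction.ofStabilizer G a :=
          (SubMulAction.mem_ofStabilizer_iff G a).2 hza
        have := h4 ⟨z, hz⟩ (fun h => hzx (congrArg Subtype.val h))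
          (fun h => hzy (congrArg Subtype.val h)) (fun h => hzw (congrArg Subtype.val h))
        exact congrArg Subtype.val this

end Cfsg.Agent.Helper66.Marg
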