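import Mathlib
import Cfsg.Agent.Helper58.Marggraf
import Cfsg.Agent.Helper60.Marg.Defs

/-!
# (F0) for helper60 (S3620, Marggraf): the hypothesis of S3620 in `IsJ` form
-/

set_option autoImplicit false

namespace Cfsg.Agent.Helper66.Marg

open MulAction Cfsg.Agent.Helper58 Cfsg.Agent.Helper60.Marg
open scoped Pointwise

variable {G : Type*} [Group G] {Ω : Type*} [MulAction G Ω]

/-- (F0) the hypothesis of S3620 in `IsJ` form -/
theorem isJ_of_isPretransitive_fixing (Γ : Set Ω)
    (hJ : IsPretransitive (fixingSubgroup G Γᶜ) (SubMulAction.ofFixingSubgroup G Γᶜ)) :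
    IsJ G Γ := by
  intro x hx y hy
  have hx' : x ∈ SubMulAction.ofFixingSubgroup G Γᶜ := by
    rw [SubMulAction.mem_ofFixingSubgroup_iff]
    exact fun h => h hx
  have hy' : y ∈ SubMulAction.ofFixingSubgroup G Γᶜ := by
    rw [SubMulAction.mem_ofFixingSubgroup_iff]
    exact fun h => h hy
  obtain ⟨g, hg⟩ := hJ.exists_smul_eq (⟨x, hx'⟩ : SubMulAction.ofFixingSubgroup G Γᶜ) ⟨y, hy'⟩
  refine ⟨(g : G), ?_, ?_⟩
  · intro z hz
    exact (mem_fixingSubgroup_iff G).1 g.2 z hz
  · have := congrArg Subtype.val hg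
    exact this

end Cfsg.Agent.Helper66.Marg
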