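import Mathlib
import Cfsg.Agent.Helper58.Marggraf
import Cfsg.Agent.Helper60.Marg.Defs

/-!
# (Q0), (Q6) for helper60 (S3620, Marggraf)
-/

set_option autoImplicit false

namespace Cfsg.Agent.Helper66.Marg

open MulAction Cfsg.Agent.Helper58 Cfsg.Agent.Helper60.Marg
open scoped Pointwise

variable {G : Type*} [Group G] {Ω : Type*} [MulAction G Ω]

/-- (Q0) a quasiprimitive group with a Jordan set of more than one point is transitive -/
theorem qp_isPretransitive
    (hqp : ∀ N : Subgroup G, N.Normal → N ≠ ⊥ → IsPretransitive N Ω)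
    {Γ : Set Ω} (hJ : IsJ G Γ) (h1 : 1 < Γ.ncard) : IsPretransitive G Ω := by
  obtain ⟨x, y, hx, hy, hxy⟩ := (Set.one_lt_ncard_iff (Set.finite_of_ncard_pos (by omega))).1 h1
  obtain ⟨g, -, hg⟩ := hJ x hx y hy
  have htop : (⊤ : Subgroup G) ≠ ⊥ := by
    intro h
    have hg1 : g ∈ (⊥ : Subgroup G) := by rw [← h]; exact Subgroup.mem_top g
    rw [Subgroup.mem_bot] at hg1
    rw [hg1, one_smul] at hg
    exact hxy hg
  have hT := hqp ⊤ inferInstance htop
  refine ⟨fun a b => ?_⟩
  obtain ⟨k, hk⟩ := hT.exists_smul_eq a b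
  exact ⟨(k : G), hk⟩

/-- (Q6) the elements supported in a Jordan set `Γ` are at least `|Γ|` in number -/
theorem ncard_le_card_fixingSubgroup [Finite G] [Finite Ω] {Γ : Set Ω} (hJ : IsJ G Γ) :
    Γ.ncard ≤ Nat.card (fixingSubgroup G Γᶜ) := by
  classical
  rcases Γ.eq_empty_or_nonempty with hemp | ⟨x0, hx0⟩
  · rw [hemp, Set.ncard_empty]; exact Nat.zero_le _
  · have hch : ∀ y : Γ, ∃ h : fixingSubgroup G Γᶜ, (h : G) • x0 = (y : Ω) := by
      intro y
      obtain ⟨g, hg, hgy⟩ := hJ x0 hx0 y y.2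
      exact ⟨⟨g, (mem_fixingSubgroup_iff G).2 fun z hz => hg z hz⟩, hgy⟩
    choose f hf using hch
    have hinj : Function.Injective f := by
      intro y y' h
      apply Subtype.ext
      rw [← hf y, ← hf y', h]
    rw [← Nat.card_coe_set_eq]
    exact Nat.card_le_card_of_injective f hinj

end Cfsg.Agent.Helper66.Marg
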